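import Groth.Agent.CheapQC.Support
import Groth.Prelude.Def_FDesc

/-!
# Quasi-flat morphisms: generalizations lift, quasi-compact surjective ones are quotient maps
-/

set_option autoImplicit false
universe u v w
open CategoryTheory CategoryTheory.Limits AlgebraicGeometry TopologicalSpace
open scoped TensorProduct

namespace Groth.Agent.QFlat

/-- A local homomorphism `R → S` carrying a nonzero finite `S`-module which is `R`-flat is surjective
on spectra. -/
theorem exists_comap_eq_of_flat {R : Type u} {S : Type v} {M : Type w} [CommRing R] [IsLocalRing R] [CommRing S]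
    [IsLocalRing S] [Algebra R S] [IsLocalHom (algebraMap R S)] [AddCommGroup M] [Module R M] [Module S M]
    [IsScalarTower R S M] [Module.Flat R M] [Module.Finite S M] [Nontrivial M] (p : PrimeSpectrum R) :
    ∃ q : PrimeSpectrum S, PrimeSpectrum.comap (algebraMap R S) q = p := by
  haveI : Module.FaithfullyFlat R M := ⟨fun m hm h => by
    have hm' : m = IsLocalRing.maximalIdeal R := IsLocalRing.eq_maximalIdeal hm
    subst hm'
    have key : ∀ z ∈ (IsLocalRing.maximalIdeal R) • (⊤ : Submodule R M),
        z ∈ (IsLocalRing.maximalIdeal S) • (⊤ : Submodule S M) := fun z hz =>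
      Submodule.smul_induction_on hz
        (fun r hr x _ => by
          rw [← algebraMap_smul S r x]
          exact Submodule.smul_mem_smul (map_nonunit (algebraMap R S) r hr) Submodule.mem_top)
        (fun a b ha hb => Submodule.add_mem _ ha hb)
    rw [h] at key
    refine Submodule.top_ne_ideal_smul_of_le_jacobson_annihilator (R := S) (M := M) ?_
      (top_unique fun z _ => key z Submodule.mem_top).symm
    exact IsLocalRing.maximalIdeal_le_jacobson _⟩
  let K := p.asIdeal.ResidueField
  haveI : Nontrivial (M ⊗[R] K) := Module.FaithfullyFlat.lTensor_nontrivial R M K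
  haveI : Nontrivial (S ⊗[R] K) := by
    by_contra hn
    haveI : Subsingleton (S ⊗[R] K) := not_nontrivial_iff_subsingleton.1 hn
    refine not_subsingleton (M ⊗[R] K) (subsingleton_of_forall_eq 0 fun z => ?_)
    induction z using TensorProduct.induction_on with
    | zero => rfl
    | tmul m c =>
      have h0 : (1 : S) ⊗ₜ[R] c = (0 : S ⊗[R] K) := Subsingleton.elim _ _
      simpa using congrArg (TensorProduct.map ((LinearMap.toSpanSingleton S M m).restrictScalars R)
        (LinearMap.id (R := R) (M := K))) h0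
    | add a b ha hb => rw [ha, hb, add_zero]
  obtain ⟨Q, hQ⟩ := Ideal.exists_maximal (S ⊗[R] K)
  let ι : S →+* S ⊗[R] K := Algebra.TensorProduct.includeLeftRingHom
  refine ⟨⟨Q.comap ι, Ideal.comap_isPrime ι Q⟩, PrimeSpectrum.ext ?_⟩
  change (Q.comap ι).comap (algebraMap R S) = p.asIdeal
  have hι : ι.comp (algebraMap R S) =
      (Algebra.TensorProduct.includeRight : K →ₐ[R] S ⊗[R] K).toRingHom.comp (algebraMap R K) :=
    Algebra.TensorProduct.includeLeftRingHom_comp_algebraMap
  rw [Ideal.comap_comap, hι, ← Ideal.comap_comap]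
  have hbot : Ideal.comap (Algebra.TensorProduct.includeRight : K →ₐ[R] S ⊗[R] K).toRingHom Q = ⊥ :=
    (Ideal.eq_bot_or_top _).resolve_right (Ideal.comap_ne_top _ hQ.ne_top)
  rw [hbot, ← RingHom.ker_eq_comap_bot]
  exact Ideal.ker_algebraMap_residueField _

/-- Generalizations lift along a quasi-flat morphism. -/
theorem generalizingMap {X Y : Scheme.{u}} (f : X ⟶ Y) (hf : FDesc.IsQuasiFlat f) :
    GeneralizingMap f.base := by
  obtain ⟨M, hM, hfl, hsupp⟩ := hf
  intro x y hy
  obtain ⟨p, hp⟩ : y ∈ Set.range (Y.fromSpecStalk (f x)) := by rw [Scheme.range_fromSpecStalk]; exact hy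
  haveI := NegVanish.finite_stalk hM x
  haveI := hsupp x
  algebraize [(f.stalkMap x).hom]
  letI := FlatMod.moduleStalkOver f M x
  haveI : IsScalarTower (Y.presheaf.stalk (f x)) (X.presheaf.stalk x) (M.presheaf.stalk x) :=
    .of_algebraMap_smul fun _ _ => rfl
  haveI : Module.Flat (Y.presheaf.stalk (f x)) (M.presheaf.stalk x) := hfl x
  haveI : IsLocalHom (algebraMap (Y.presheaf.stalk (f x)) (X.presheaf.stalk x)) := f.toLRSHom.prop x
  obtain ⟨q, hq⟩ := exists_comap_eq_of_flat (S := X.presheaf.stalk x) (M := M.presheaf.stalk x) p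
  refine ⟨X.fromSpecStalk x q, ?_, ?_⟩
  · have h : X.fromSpecStalk x q ∈ Set.range (X.fromSpecStalk x) := ⟨q, rfl⟩
    rw [Scheme.range_fromSpecStalk] at h
    exact h
  · rw [← hp, ← hq]
    exact (congrArg (fun g : Spec (X.presheaf.stalk x) ⟶ Y => g q) (Scheme.SpecMap_stalkMap_fromSpecStalk f (x := x))).symm

/-- The image of a closed set under a quasi-compact morphism is closed as soon as it is stable under
specialization. -/
theorem isClosed_image_of_stableUnderSpecialization {X Y : Scheme.{u}} (f : X ⟶ Y) [QuasiCompact f]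
    {Z : Set X} (hZ : IsClosed Z) (h : StableUnderSpecialization (f.base '' Z)) :
    IsClosed (f.base '' Z) := by
  rw [TopologicalSpace.IsOpenCover.isClosed_iff_coe_preimage (iSup_affineOpens_eq_top Y : IsOpenCover fun i : Y.affineOpens => (i : Y.Opens))]
  intro V
  change IsClosed (V.1.ι.base ⁻¹' (f.base '' Z))
  have hVa : IsAffineOpen V.1 := V.2
  have e : V.1.ι.base ⁻¹' (f.base '' Z) = (f ∣_ V.1).base '' ((f ⁻¹ᵁ V.1).ι.base ⁻¹' Z) := by
    ext v
    constructor
    · rintro ⟨x, hx, hxv⟩
      refine ⟨⟨x, show f x ∈ V.1 from hxv ▸ v.2⟩, hx, Subtype.ext ?_⟩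
      exact (congrArg (fun g : (f ⁻¹ᵁ V.1).toScheme ⟶ Y => g _) (morphismRestrict_ι f V.1)).trans hxv
    · rintro ⟨x, hx, rfl⟩
      exact ⟨_, hx, (congrArg (fun g : (f ⁻¹ᵁ V.1).toScheme ⟶ Y => g x) (morphismRestrict_ι f V.1)).symm⟩
  haveI : IsAffine V.1.toScheme := hVa
  haveI : CompactSpace ↥(f ⁻¹ᵁ V.1).toScheme :=
    QuasiCompact.compactSpace_of_compactSpace (f ∣_ V.1)
  obtain ⟨R, g, hg⟩ := compactSpace_iff_exists.mp ‹_›
  obtain ⟨φ, hφ⟩ := Spec.map_surjective (g ≫ (f ∣_ V.1) ≫ hVa.isoSpec.hom)
  let T := hVa.isoSpec.hom.base '' (V.1.ι.base ⁻¹' (f.base '' Z))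
  have hT : T = PrimeSpectrum.comap φ.hom '' (((f ⁻¹ᵁ V.1).ι.base ⁻¹' Z) |> (g.base ⁻¹' ·)) := by
    change T = (Spec.map φ).base '' _
    rw [hφ]
    ext z
    constructor
    · intro hz
      simp only [T, e] at hz
      obtain ⟨v, ⟨x, hx, rfl⟩, rfl⟩ := hz
      obtain ⟨r, rfl⟩ := hg x
      exact ⟨r, hx, rfl⟩
    · rintro ⟨r, hr, rfl⟩
      simp only [T, e]
      exact ⟨_, ⟨g r, hr, rfl⟩, rfl⟩
  let hH := hVa.isoSpec.hom.homeomorph
  have hTc : IsClosed T := by
    rw [hT]
    refine PrimeSpectrum.isClosed_image_of_stableUnderSpecialization φ.hom _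
      ((hZ.preimage (f ⁻¹ᵁ V.1).ι.continuous).preimage g.continuous) ?_
    rw [← hT]
    change StableUnderSpecialization (hH '' _)
    rw [Homeomorph.image_eq_preimage_symm]
    exact (h.preimage V.1.ι.continuous).preimage hH.symm.continuous
  exact (hH.isClosed_image).1 hTc

/-- A surjective quasi-compact morphism along which generalizations lift is a quotient map. -/
theorem isQuotientMap {X Y : Scheme.{u}} (f : X ⟶ Y) [Surjective f] [QuasiCompact f]
    (hg : GeneralizingMap f.base) : Topology.IsQuotientMap f.base := by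
  rw [Topology.isQuotientMap_iff_isClosed]
  refine ⟨f.surjective, fun s => ⟨fun hs => hs.preimage f.continuous, fun hsc => ?_⟩⟩
  rw [← Set.image_preimage_eq s f.surjective]
  refine isClosed_image_of_stableUnderSpecialization f hsc ?_
  rw [Set.image_preimage_eq s f.surjective, ← stableUnderGeneralization_compl_iff]
  have h2 := hg.stableUnderGeneralization_image hsc.isOpen_compl.stableUnderGeneralization
  rwa [← Set.preimage_compl, Set.image_preimage_eq _ f.surjective] at h2

end Groth.Agent.QFlat
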