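import Groth.Agent.QFlat.Basic
import Groth.Agent.QCohLib.StalkLoc
import Groth.Agent.QCohLib.FiniteType
import Mathlib.RingTheory.Support

/-!
# Generalizations lift within the support of a flat coherent module; maximal points
-/

set_option autoImplicit false
set_option linter.style.haveILetI false
universe u
open CategoryTheory CategoryTheory.Limits AlgebraicGeometry TopologicalSpace Opposite

namespace Groth.Agent.QFlat

/-- The generalizations of `x` lying over primes containing the annihilator of the stalk lie in the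
support. -/
theorem fromSpecStalk_mem_support {X : Scheme.{u}} {M : X.Modules} (hM : Coh.IsCoh M) (x : X)
    (q : Spec (X.presheaf.stalk x)) (hq : Module.annihilator (X.presheaf.stalk x) (M.presheaf.stalk x) ≤ q.asIdeal) :
    X.fromSpecStalk x q ∈ CohB1.support M := by
  haveI := hM.1
  obtain ⟨U, hU, hxU, -⟩ := exists_isAffineOpen_mem_and_subset (X := X) (x := x) (U := ⊤) (Set.mem_univ _)
  let q' : Spec Γ(X, U) := Spec.map (X.presheaf.germ U x hxU) q
  have hpt : X.fromSpecStalk x q = hU.fromSpec q' := by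
    rw [← hU.fromSpecStalk_eq_fromSpecStalk hxU]; rfl
  have hz : hU.fromSpec q' ∈ U := by
    have h0 : hU.fromSpec q' ∈ Set.range hU.fromSpec := ⟨q', rfl⟩
    rwa [hU.range_fromSpec] at h0
  have hprime : hU.primeIdealOf ⟨_, hz⟩ = q' :=
    hU.fromSpec.isOpenEmbedding.injective (hU.fromSpec_primeIdealOf ⟨_, hz⟩)
  haveI : Module.Finite Γ(X, U) Γ(M, U) := QCohLib.finite_sections M hM.2 hU
  rw [hpt, QCohLib.mem_support_iff_mem_moduleSupport hU _ hz, hprime, Module.mem_support_iff_of_finite]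
  intro a ha
  change X.presheaf.germ U x hxU a ∈ q.asIdeal
  refine hq (Module.mem_annihilator.2 fun m => ?_)
  letI := QCohLib.germModule M x hxU
  haveI := QCohLib.isLocalizedModule_germ (M := M) hU x hxU
  obtain ⟨⟨n, s⟩, hs⟩ := IsLocalizedModule.surj (hU.primeIdealOf ⟨x, hxU⟩).asIdeal.primeCompl
    (QCohLib.germLinearMap M x hxU) m
  apply ((Module.End.isUnit_iff _).1 (IsLocalizedModule.map_units (QCohLib.germLinearMap M x hxU) s)).1
  rw [map_zero, Module.algebraMap_end_apply]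
  change (s : Γ(X, U)) • (a • m) = 0
  rw [smul_comm, show (s : Γ(X, U)) • m = QCohLib.germLinearMap M x hxU n from hs, ← map_smul,
    Module.mem_annihilator.1 ha n, map_zero]

/-- Generalizations lift within the support of a coherent module flat over the base. -/
theorem exists_specializes_support {X Y : Scheme.{u}} (f : X ⟶ Y) {M : X.Modules} (hM : Coh.IsCoh M)
    (hfl : FlatMod.IsFlatOver f M) {x : X} (hx : x ∈ CohB1.support M) {w : Y} (hw : w ⤳ f x) :
    ∃ z ∈ CohB1.support M, z ⤳ x ∧ f z = w := by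
  obtain ⟨p, hp⟩ : w ∈ Set.range (Y.fromSpecStalk (f x)) := by rw [Scheme.range_fromSpecStalk]; exact hw
  haveI := NegVanish.finite_stalk hM x
  haveI : Nontrivial (M.presheaf.stalk x) := not_subsingleton_iff_nontrivial.1 hx
  algebraize [(f.stalkMap x).hom]
  letI := FlatMod.moduleStalkOver f M x
  haveI : IsScalarTower (Y.presheaf.stalk (f x)) (X.presheaf.stalk x) (M.presheaf.stalk x) :=
    .of_algebraMap_smul fun _ _ => rfl
  haveI : Module.Flat (Y.presheaf.stalk (f x)) (M.presheaf.stalk x) := hfl x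
  haveI : IsLocalHom (algebraMap (Y.presheaf.stalk (f x)) (X.presheaf.stalk x)) := f.toLRSHom.prop x
  let I := Module.annihilator (X.presheaf.stalk x) (M.presheaf.stalk x)
  letI : Module (X.presheaf.stalk x ⧸ I) (M.presheaf.stalk x) := Module.quotientAnnihilator
  haveI : IsScalarTower (X.presheaf.stalk x) (X.presheaf.stalk x ⧸ I) (M.presheaf.stalk x) :=
    .of_algebraMap_smul fun _ _ => rfl
  haveI : Module.Finite (X.presheaf.stalk x ⧸ I) (M.presheaf.stalk x) :=
    Module.Finite.of_restrictScalars_finite (X.presheaf.stalk x) _ _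
  have hI : I ≠ ⊤ := fun h => not_subsingleton (M.presheaf.stalk x) (Module.annihilator_eq_top_iff.1 h)
  haveI : Nontrivial (X.presheaf.stalk x ⧸ I) := Ideal.Quotient.nontrivial_iff.2 hI
  haveI : IsLocalRing (X.presheaf.stalk x ⧸ I) := .of_surjective' (Ideal.Quotient.mk I) Ideal.Quotient.mk_surjective
  haveI : IsScalarTower (Y.presheaf.stalk (f x)) (X.presheaf.stalk x ⧸ I) (M.presheaf.stalk x) :=
    .of_algebraMap_smul fun _ _ => rfl
  haveI : IsLocalHom (algebraMap (Y.presheaf.stalk (f x)) (X.presheaf.stalk x ⧸ I)) := by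
    haveI : IsLocalHom (Ideal.Quotient.mk I) := IsLocalHom.of_surjective _ Ideal.Quotient.mk_surjective
    exact RingHom.isLocalHom_comp (Ideal.Quotient.mk I) (algebraMap _ _)
  obtain ⟨q, hq⟩ := exists_comap_eq_of_flat (S := X.presheaf.stalk x ⧸ I) (M := M.presheaf.stalk x) p
  let q' : Spec (X.presheaf.stalk x) := PrimeSpectrum.comap (Ideal.Quotient.mk I) q
  refine ⟨X.fromSpecStalk x q', fromSpecStalk_mem_support hM x q' fun a ha => ?_, ?_, ?_⟩
  · change Ideal.Quotient.mk I a ∈ q.asIdeal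
    rw [Ideal.Quotient.eq_zero_iff_mem.2 ha]
    exact Submodule.zero_mem _
  · have h : X.fromSpecStalk x q' ∈ Set.range (X.fromSpecStalk x) := ⟨q', rfl⟩
    rw [Scheme.range_fromSpecStalk] at h
    exact h
  · rw [← hp, ← hq]
    exact (congrArg (fun g : Spec (X.presheaf.stalk x) ⟶ Y => g q') (Scheme.SpecMap_stalkMap_fromSpecStalk f (x := x))).symm

/-- Maximal points of `f⁻¹A ∩ B` when generalizations lift inside `B`. -/
theorem maximal_point_iff {X Y F : Type u} [TopologicalSpace X] [TopologicalSpace Y] [TopologicalSpace F]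
    (f : X → Y) (hf : Continuous f) {A : Set Y} {B : Set X}
    (hlift : ∀ {x}, x ∈ B → ∀ {w}, w ⤳ f x → ∃ z ∈ B, z ⤳ x ∧ f z = w)
    (x : X) (i : F → X) (hi : Topology.IsEmbedding i) (hr : Set.range i = f ⁻¹' {f x}) (x' : F) (hx' : i x' = x) :
    (x ∈ f ⁻¹' A ∩ B ∧ ∀ z ∈ f ⁻¹' A ∩ B, z ⤳ x → z = x) ↔
      ((f x ∈ A ∧ ∀ w ∈ A, w ⤳ f x → w = f x) ∧ (x' ∈ i ⁻¹' B ∧ ∀ z ∈ i ⁻¹' B, z ⤳ x' → z = x')) := by
  constructor
  · rintro ⟨⟨hA, hB⟩, hmax⟩
    refine ⟨⟨hA, fun w hw hwx => ?_⟩, show i x' ∈ B by rwa [hx'], fun z hz hzx => hi.injective ?_⟩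
    · obtain ⟨z, hzB, hzx, rfl⟩ := hlift hB hwx
      rw [hmax z ⟨hw, hzB⟩ hzx]
    · rw [hx']
      have hfz : f (i z) = f x := by
        have : i z ∈ Set.range i := ⟨z, rfl⟩
        rwa [hr] at this
      exact hmax _ ⟨show f (i z) ∈ A by rwa [hfz], hz⟩ (hx' ▸ hi.isInducing.specializes_iff.2 hzx)
  · rintro ⟨⟨hA, hmaxA⟩, hB, hmaxB⟩
    refine ⟨⟨hA, by simpa [hx'] using hB⟩, fun z hz hzx => ?_⟩
    have hfz : f z = f x := hmaxA _ hz.1 (hzx.map hf)
    obtain ⟨z', rfl⟩ : z ∈ Set.range i := by rw [hr]; exact hfz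
    rw [hmaxB z' hz.2 (hi.isInducing.specializes_iff.1 (by rwa [hx'])), hx']

end Groth.Agent.QFlat
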